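import Mathlib.RingTheory.Flat.Basic
import Mathlib.LinearAlgebra.TensorProduct.Quotient
import Mathlib.LinearAlgebra.DirectSum.Finsupp
import Mathlib.RingTheory.Nilpotent.Basic
import Mathlib.RingTheory.Ideal.Maps
import Mathlib.AlgebraicGeometry.Morphisms.Flat
import Mathlib.AlgebraicGeometry.Morphisms.Affine

/-!
# Schematic density modulo a nilpotent ideal with free graded pieces
-/

set_option autoImplicit false

universe u v

open TensorProduct

namespace GrothLib.SchDenseNil14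

section Algebra

variable {A : Type u} [CommRing A] (J : Ideal A)

/-- Induction step: detection in the graded piece. -/
theorem mem_map_pow_succ {B : Type u} [CommRing B] [Algebra A B] {Idx : Type v}
    (C : Idx → Type u) [∀ i, CommRing (C i)] [∀ i, Algebra A (C i)] [∀ i, Module.Flat A (C i)]
    (g : ∀ i, B →ₐ[A] C i) (k : ℕ) [Module.Free (A ⧸ J) ((A ⧸ J) ⊗[A] ↥(J ^ k))]
    (hdet : ∀ b : B, (∀ i, g i b ∈ J.map (algebraMap A (C i))) → b ∈ J.map (algebraMap A B))
    {t : B} (ht : ∀ i, g i t = 0) (htk : t ∈ (J ^ k).map (algebraMap A B)) :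
    t ∈ (J ^ (k + 1)).map (algebraMap A B) := by
  classical
  let M : Submodule A A := J ^ k
  let μ : ∀ (R : Type u) [CommRing R] [Algebra A R], R ⊗[A] M →ₗ[A] R := fun R _ _ =>
    (TensorProduct.rid A R).toLinearMap ∘ₗ M.subtype.lTensor R
  have hμ : ∀ (R : Type u) [CommRing R] [Algebra A R] (r : R) (m : M), μ R (r ⊗ₜ m) = (m : A) • r :=
    fun R _ _ r m => by simp [μ]
  obtain ⟨z, hz⟩ : ∃ z, μ B z = t := by
    refine Submodule.span_induction (p := fun x _ => ∃ z, μ B z = x) ?_ ⟨0, map_zero _⟩ ?_ ?_ htk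
    · rintro _ ⟨a, ha, rfl⟩
      exact ⟨1 ⊗ₜ ⟨a, ha⟩, by rw [hμ, Algebra.smul_def, mul_one]⟩
    · rintro x y _ _ ⟨a, rfl⟩ ⟨b, rfl⟩
      exact ⟨a + b, map_add _ _ _⟩
    · rintro r x - ⟨z, rfl⟩
      refine ⟨(LinearMap.mulLeft A r).rTensor M z, ?_⟩
      clear htk
      induction z using TensorProduct.induction_on with
      | zero => simp
      | tmul b m => simp [hμ]
      | add a b ha hb => simp only [map_add, ha, hb, smul_eq_mul, mul_add] at *
  let N := (A ⧸ J) ⊗[A] M
  let bas := Module.Free.chooseBasis (A ⧸ J) ((A ⧸ J) ⊗[A] ↥(J ^ k))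
  let Λ := Module.Free.ChooseBasisIndex (A ⧸ J) ((A ⧸ J) ⊗[A] ↥(J ^ k))
  let e : N ≃ₗ[A] Λ →₀ (A ⧸ J) := bas.repr.restrictScalars A
  let q : M →ₗ[A] Λ →₀ (A ⧸ J) := e.toLinearMap ∘ₗ TensorProduct.mk A (A ⧸ J) M 1
  let co : Λ → (B ⊗[A] M →ₗ[A] B ⊗[A] (A ⧸ J)) := fun l => ((Finsupp.lapply l).comp q).lTensor B
  have hco : ∀ l, co l z = 0 := by
    intro l
    let π := TensorProduct.tensorQuotEquivQuotSMul B J
    obtain ⟨b, hb⟩ := Submodule.Quotient.mk_surjective _ (π (co l z))
    have hπ : ∀ (R : Type u) [CommRing R] [Algebra A R] (y : R),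
        TensorProduct.tensorQuotEquivQuotSMul R J (y ⊗ₜ[A] (1 : A ⧸ J)) = Submodule.Quotient.mk y :=
      fun R _ _ y => TensorProduct.quotTensorEquivQuotSMul_mk_one_tmul J y
    have hcol : co l z = b ⊗ₜ (1 : A ⧸ J) := π.injective (hb.symm.trans (hπ B b).symm)
    have hbJ : b ∈ J.map (algebraMap A B) := by
      refine hdet b fun i => ?_
      have h0 : (g i).toLinearMap.rTensor M z = 0 := by
        refine Module.Flat.lTensor_preserves_injective_linearMap (M := C i) M.subtype M.injective_subtype ?_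
        refine (TensorProduct.rid A (C i)).injective ?_
        rw [map_zero, map_zero]
        refine Eq.trans ?_ (ht i)
        rw [← hz]
        clear_value μ
        clear hz hb hcol
        induction z using TensorProduct.induction_on with
        | zero => simp
        | tmul b m => simp [hμ]
        | add a b ha hb => simp only [map_add, ha, hb]
      have h1 : (g i).toLinearMap.rTensor (A ⧸ J) (co l z) = 0 := by
        rw [← LinearMap.comp_apply, LinearMap.rTensor_comp_lTensor, ← LinearMap.lTensor_comp_rTensor,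
          LinearMap.comp_apply, h0, map_zero]
      rw [hcol, LinearMap.rTensor_tmul] at h1
      have h2 := congrArg (TensorProduct.tensorQuotEquivQuotSMul (C i) J) h1
      rw [hπ, map_zero, Submodule.Quotient.mk_eq_zero, Ideal.smul_top_eq_map] at h2
      exact h2
    rw [hcol]
    refine (TensorProduct.tensorQuotEquivQuotSMul B J).injective ?_
    rw [map_zero, hπ, Submodule.Quotient.mk_eq_zero, Ideal.smul_top_eq_map]
    exact hbJ
  have hq : q.lTensor B z = 0 := by
    refine (TensorProduct.finsuppRight A A B (A ⧸ J) Λ).injective ?_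
    rw [map_zero]
    refine Finsupp.ext fun l => ?_
    rw [Finsupp.zero_apply, ← hco l]
    clear hco hz
    induction z using TensorProduct.induction_on with
    | zero => simp
    | tmul b m => simp [co, q, TensorProduct.finsuppRight_apply_tmul_apply]
    | add a b ha hb => simp only [map_add, Finsupp.coe_add, Pi.add_apply, ha, hb]
  have h1 : (TensorProduct.mk A (A ⧸ J) M 1).lTensor B z = 0 := by
    refine (LinearEquiv.lTensor B e).injective ?_
    rw [map_zero]
    refine Eq.trans ?_ hq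
    rw [LinearMap.lTensor_comp]
    rfl
  have hz' : z ∈ J • (⊤ : Submodule A (B ⊗[A] M)) := by
    rw [← Submodule.Quotient.mk_eq_zero, ← TensorProduct.quotTensorEquivQuotSMul_mk_one_tmul J]
    refine (LinearEquiv.map_eq_zero_iff _).2 ?_
    refine (TensorProduct.leftComm A (A ⧸ J) B M).injective ?_
    rw [map_zero]
    refine Eq.trans ?_ h1
    clear h1 hq hco hz
    induction z using TensorProduct.induction_on with
    | zero => simp
    | tmul b m => simp
    | add a b ha hb => simp only [map_add, TensorProduct.tmul_add, ha, hb]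
  rw [← hz]
  refine Submodule.smul_induction_on hz' (fun a ha y hy => ?_) fun x y hx hy => ?_
  · rw [map_smul, Algebra.smul_def, pow_succ', Ideal.map_mul]
    refine Ideal.mul_mem_mul (Ideal.mem_map_of_mem _ ha) ?_
    clear hy
    induction y using TensorProduct.induction_on with
    | zero => simp
    | tmul b m =>
      rw [hμ, Algebra.smul_def]
      exact Ideal.mul_mem_right _ _ (Ideal.mem_map_of_mem _ m.2)
    | add a b ha hb => rw [map_add]; exact add_mem ha hb
  · rw [map_add]; exact add_mem hx hy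

theorem eq_zero_of_detect {B : Type u} [CommRing B] [Algebra A B] {Idx : Type v}
    (C : Idx → Type u) [∀ i, CommRing (C i)] [∀ i, Algebra A (C i)] [∀ i, Module.Flat A (C i)]
    (g : ∀ i, B →ₐ[A] C i) (hJ : IsNilpotent J) (hfree : ∀ k : ℕ, Module.Free (A ⧸ J) ((A ⧸ J) ⊗[A] ↥(J ^ k)))
    (hdet : ∀ b : B, (∀ i, g i b ∈ J.map (algebraMap A (C i))) → b ∈ J.map (algebraMap A B))
    {t : B} (ht : ∀ i, g i t = 0) : t = 0 := by
  have : ∀ k, t ∈ (J ^ k).map (algebraMap A B) := by
    intro k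
    induction k with
    | zero => rw [pow_zero, Ideal.one_eq_top, Ideal.map_top]; exact Submodule.mem_top
    | succ k ih => exact @mem_map_pow_succ A _ J B _ _ _ C _ _ _ g k (hfree k) hdet t ht ih
  obtain ⟨n, hn⟩ := hJ
  simpa [hn] using this n

end Algebra

section Geometry

open CategoryTheory CategoryTheory.Limits AlgebraicGeometry

variable {A : CommRingCat.{u}}

/-- The structure map on sections over an open. -/
noncomputable def str {Y : Scheme.{u}} (f : Y ⟶ Spec A) (W : Y.Opens) : A ⟶ Γ(Y, W) :=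
  (Scheme.ΓSpecIso A).inv ≫ f.appLE ⊤ W le_top

theorem str_appLE {Y Y' : Scheme.{u}} (g : Y' ⟶ Y) (f : Y ⟶ Spec A) (W : Y.Opens) (W' : Y'.Opens)
    (e : W' ≤ g ⁻¹ᵁ W) : str f W ≫ g.appLE W W' e = str (g ≫ f) W' := by
  rw [str, str, Category.assoc, Scheme.Hom.appLE_comp_appLE]

theorem str_spec {B : CommRingCat.{u}} (φ : A ⟶ B) :
    str (Spec.map φ) ⊤ ≫ (Scheme.ΓSpecIso B).hom = φ := by
  rw [str, Category.assoc]
  have : (Spec.map φ).appLE ⊤ ⊤ le_top = (Spec.map φ).appTop := by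
    simp [Scheme.Hom.appLE]
  rw [this, Scheme.ΓSpecIso_naturality, Iso.inv_hom_id_assoc]

theorem flat_str {Y : Scheme.{u}} (f : Y ⟶ Spec A) [Flat f] {W : Y.Opens} (hW : IsAffineOpen W) :
    (str f W).hom.Flat :=
  RingHom.Flat.comp (RingHom.Flat.of_bijective (ConcreteCategory.bijective_of_isIso (Scheme.ΓSpecIso A).inv))
    (f.flat_appLE (isAffineOpen_top _) hW le_top)

theorem str_fromSpec {Y : Scheme.{u}} (f : Y ⟶ Spec A) {W : Y.Opens} (hW : IsAffineOpen W) :
    hW.fromSpec ≫ f = Spec.map (str f W) := by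
  rw [← IsAffineOpen.SpecMap_appLE_fromSpec f (isAffineOpen_top _) hW le_top, IsAffineOpen.fromSpec_top,
    str, Spec.map_comp, Scheme.isoSpec_Spec_inv]

theorem fromSpec_appLE {X : Scheme.{u}} {V : X.Opens} (hV : IsAffineOpen V) {R : CommRingCat.{u}}
    (π : Γ(X, V) ⟶ R) (e) :
    (Spec.map π ≫ hV.fromSpec).appLE V ⊤ e = π ≫ (Scheme.ΓSpecIso R).inv := by
  rw [← Scheme.Hom.appLE_comp_appLE (Spec.map π) hV.fromSpec V ⊤ ⊤ (by rw [hV.fromSpec_preimage_self]) le_top,
    Scheme.ΓSpecIso_inv_naturality]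
  congr 1
  simp only [Scheme.Hom.appLE, hV.fromSpec_app_self, Category.assoc]
  rw [← Functor.map_comp]
  exact (congrArg (_ ≫ ·) ((congrArg _ (Subsingleton.elim _ (𝟙 _))).trans
    ((Spec Γ(X, V)).presheaf.map_id _))).trans (Category.comp_id _)

theorem eq_zero_of_schDense {X : Scheme.{u}} (p : X ⟶ Spec A) [Flat p] (J : Ideal A) (hJ : IsNilpotent J)
    (hfree : ∀ k : ℕ, Module.Free (A ⧸ J) ((A ⧸ J) ⊗[A] ↥(J ^ k)))
    {Idx : Type u} (Z : Idx → Scheme.{u}) (v : ∀ i, Z i ⟶ X) [∀ i, Flat (v i ≫ p)]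
    (h0 : ∀ (V : (pullback p (Spec.map (CommRingCat.ofHom (Ideal.Quotient.mk J)))).Opens)
        (t : Γ(pullback p (Spec.map (CommRingCat.ofHom (Ideal.Quotient.mk J))), V)),
      (∀ i, (pullback.map (v i ≫ p) (Spec.map (CommRingCat.ofHom (Ideal.Quotient.mk J))) p
        (Spec.map (CommRingCat.ofHom (Ideal.Quotient.mk J))) (v i) (𝟙 _) (𝟙 _)
        (Category.comp_id _) ((Category.comp_id _).trans (Category.id_comp _).symm)).app V t = 0) → t = 0)
    {V : X.Opens} (hV : IsAffineOpen V) (t : Γ(X, V)) (ht : ∀ i, (v i).app V t = 0) : t = 0 := by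
  let Q := CommRingCat.of (A ⧸ J)
  let mk : A ⟶ Q := CommRingCat.ofHom (Ideal.Quotient.mk J)
  let T := Σ i, {W : (Z i).affineOpens // W.1 ≤ v i ⁻¹ᵁ V}
  letI : Algebra A Γ(X, V) := (str p V).hom.toAlgebra
  letI : ∀ w : T, Algebra A Γ(Z w.1, w.2.1.1) := fun w => (str (v w.1 ≫ p) w.2.1.1).hom.toAlgebra
  haveI : ∀ w : T, Module.Flat A Γ(Z w.1, w.2.1.1) := fun w => flat_str (v w.1 ≫ p) w.2.1.2
  let g : ∀ w : T, Γ(X, V) →ₐ[A] Γ(Z w.1, w.2.1.1) := fun w =>
    { ((v w.1).appLE V w.2.1.1 w.2.2).hom with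
      commutes' := fun a => congr($(str_appLE (v w.1) p V w.2.1.1 w.2.2) a) }
  refine eq_zero_of_detect J (fun w : T => Γ(Z w.1, w.2.1.1)) g hJ hfree (fun b hb => ?_)
    (fun w => ?_)
  swap
  · change (v w.1).appLE V w.2.1.1 w.2.2 t = 0
    rw [Scheme.Hom.appLE, CommRingCat.comp_apply, ht, map_zero]
  let P := pullback p (Spec.map mk)
  let q : P ⟶ X := pullback.fst p (Spec.map mk)
  have hq : q.app V b = 0 := by
    refine h0 _ _ fun i => ?_
    let m := pullback.map (v i ≫ p) (Spec.map mk) p (Spec.map mk) (v i) (𝟙 _) (𝟙 _)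
        (Category.comp_id _) ((Category.comp_id _).trans (Category.id_comp _).symm)
    let q' := pullback.fst (v i ≫ p) (Spec.map mk)
    show m.app (q ⁻¹ᵁ V) (q.app V b) = 0
    refine TopCat.Presheaf.section_ext (pullback (v i ≫ p) (Spec.map mk)).sheaf _ _ _ fun y hy => ?_
    have hy' : q' y ∈ v i ⁻¹ᵁ V := by
      have : m ≫ q = q' ≫ v i := pullback.lift_fst _ _ _
      have h := congr($(this) y)
      simp only [Scheme.Hom.comp_apply] at h
      show v i (q' y) ∈ V
      rw [← h]; exact hy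
    obtain ⟨W, hW, hyW, hWV⟩ := exists_isAffineOpen_mem_and_subset hy'
    have hle : W ≤ v i ⁻¹ᵁ V := hWV
    have hle' : q' ⁻¹ᵁ W ≤ (m ≫ q) ⁻¹ᵁ V := by
      rw [show m ≫ q = q' ≫ v i from pullback.lift_fst _ _ _]
      exact fun z hz => hle hz
    let U := q' ⁻¹ᵁ W
    have hJW : J.map (str (v i ≫ p) W).hom ≤ RingHom.ker (q'.app W).hom := by
      refine Ideal.map_le_iff_le_comap.2 fun a ha => ?_
      rw [Ideal.mem_comap, RingHom.mem_ker, Scheme.Hom.app_eq_appLE,
        ← CommRingCat.comp_apply, str_appLE q' (v i ≫ p) W (q' ⁻¹ᵁ W) le_rfl]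
      have e : str (q' ≫ v i ≫ p) (q' ⁻¹ᵁ W) = mk ≫ str (pullback.snd (v i ≫ p) (Spec.map mk)) (q' ⁻¹ᵁ W) := by
        have hc : q' ≫ v i ≫ p = pullback.snd (v i ≫ p) (Spec.map mk) ≫ Spec.map mk := pullback.condition
        rw [hc, ← str_appLE (pullback.snd (v i ≫ p) (Spec.map mk)) (Spec.map mk) ⊤ _ le_top,
          str, str, Category.assoc]
        have h2 : (Spec.map mk).appLE ⊤ ⊤ le_top = (Spec.map mk).appTop := by simp [Scheme.Hom.appLE]
        rw [h2, ← Scheme.ΓSpecIso_inv_naturality_assoc]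
      rw [e]
      have h0a : mk a = 0 := Ideal.Quotient.eq_zero_iff_mem.2 ha
      rw [CommRingCat.comp_apply, h0a, map_zero]
    have hker : q'.app W ((v i).appLE V W hle b) = 0 := hJW (hb ⟨i, ⟨⟨W, hW⟩, hle⟩⟩)
    have key : (pullback (v i ≫ p) (Spec.map mk)).presheaf.map (homOfLE hle').op ((m ≫ q).app V b) = 0 := by
      rw [← hker, Scheme.Hom.app_eq_appLE q', ← CommRingCat.comp_apply, ← CommRingCat.comp_apply]
      change ((m ≫ q).appLE V U hle') b = _
      rw [Scheme.Hom.appLE_comp_appLE]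
      have key2 : ∀ (f f' : pullback (v i ≫ p) (Spec.map mk) ⟶ X) (_ : f = f') (e e'),
          f.appLE V U e b = f'.appLE V U e' b := by
        rintro f f' rfl e e'; rfl
      exact key2 _ _ (pullback.lift_fst _ _ _) _ _
    have hyU : y ∈ U := hyW
    have := congrArg ((pullback (v i ≫ p) (Spec.map mk)).presheaf.germ U y hyU) key
    rw [TopCat.Presheaf.germ_res_apply, Scheme.Hom.comp_app] at this
    exact this.trans ((map_zero _).trans (map_zero _).symm)
  let R := CommRingCat.of (Γ(X, V) ⧸ J.map (algebraMap A Γ(X, V)))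
  let π : Γ(X, V) ⟶ R := CommRingCat.ofHom (Ideal.Quotient.mk _)
  let φ : Q ⟶ R := CommRingCat.ofHom (Ideal.Quotient.lift J ((Ideal.Quotient.mk _).comp (algebraMap A Γ(X, V)))
    fun a ha => Ideal.Quotient.eq_zero_iff_mem.2 (Ideal.mem_map_of_mem _ ha))
  let l : Spec R ⟶ P := pullback.lift (Spec.map π ≫ hV.fromSpec) (Spec.map φ) (by
    rw [Category.assoc, str_fromSpec p hV, ← Spec.map_comp, ← Spec.map_comp]
    congr 1)
  have hle : (⊤ : (Spec R).Opens) ≤ (l ≫ q) ⁻¹ᵁ V := by
    rw [show l ≫ q = Spec.map π ≫ hV.fromSpec from pullback.lift_fst _ _ _]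
    intro z _
    show hV.fromSpec (Spec.map π z) ∈ V
    have : hV.fromSpec (Spec.map π z) ∈ Set.range hV.fromSpec := ⟨_, rfl⟩
    rwa [hV.range_fromSpec] at this
  have h1 : (Spec.map π ≫ hV.fromSpec).appLE V ⊤ (by
      rw [show Spec.map π ≫ hV.fromSpec = l ≫ q from (pullback.lift_fst _ _ _).symm]; exact hle) b = 0 := by
    have key2 : ∀ (f f' : Spec R ⟶ X) (_ : f = f') (e e'), f.appLE V ⊤ e b = f'.appLE V ⊤ e' b := by
      rintro f f' rfl e e'; rfl
    rw [key2 _ (l ≫ q) (pullback.lift_fst _ _ _).symm _ hle]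
    rw [Scheme.Hom.appLE, CommRingCat.comp_apply, Scheme.Hom.comp_app]
    erw [CommRingCat.comp_apply]
    rw [hq]
    erw [map_zero, map_zero]
  refine Ideal.Quotient.eq_zero_iff_mem.1 ?_
  change π b = 0
  have h2 : (Spec.map π ≫ hV.fromSpec).appLE V ⊤ (by
      rw [show Spec.map π ≫ hV.fromSpec = l ≫ q from (pullback.lift_fst _ _ _).symm]; exact hle) b =
      (Scheme.ΓSpecIso R).inv (π b) := by
    rw [fromSpec_appLE hV π]
    rfl
  rw [h2] at h1
  exact (ConcreteCategory.bijective_of_isIso (Scheme.ΓSpecIso R).inv).1 (h1.trans (map_zero _).symm)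

end Geometry

end GrothLib.SchDenseNil14
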